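import Cfsg.Agent.H66.IFU.Odd
import Cfsg.Agent.H361.IFU.Even

/-!
# S5719, cell `CellsPSU.three` (helper66, helper361)
-/

set_option autoImplicit false

namespace Cfsg.Agent.H66.IFU

open Cfsg Cfsg.Agent.H209.Fxy

/-- **`PSU_3(q)`, `|A|` even.** -/
theorem three (F : Type) [Field F] [Fintype F] (q : ℕ) (hF : Fintype.card F = q ^ 2) (hq : q ≠ 2)
    (hs : IsSimpleGroup (PSU 3 F q)) : KillE (PSU 3 F q) := by
  rcases Nat.even_or_odd q with h | h
  · exact Cfsg.Agent.H361.IFU.even F q hF hq h hs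
  · exact odd F q hF h hs

end Cfsg.Agent.H66.IFU
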