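import Cfsg.Agent.H66.IFU.Sl2
import Cfsg.Agent.H209.IF.Kill
import Cfsg.Agent.H999.IF.EngB
import Cfsg.Agent.H771.IFx.Idx
import Cfsg.Agent.LieClassical.SUBasic

/-!
# S5719, `PSU_3(q)`, `q` odd (helper66)
-/

set_option autoImplicit false
set_option linter.unusedSectionVars false
set_option linter.unusedVariables false

namespace Cfsg.Agent.H66.IFU

open Cfsg Matrix Cfsg.Agent.LieRecognition.PSUThreeSylow Cfsg.Agent.H961.LinePSU3
open Cfsg.Agent.H209.Fxy

/-- a simple group with a subgroup different from `⊥` and `⊤` is not commutative -/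
theorem exists_not_comm {T : Type*} [Group T] [IsSimpleGroup T] {A : Subgroup T} (h1 : A ≠ ⊥) (h2 : A ≠ ⊤) :
    ∃ a b : T, a * b ≠ b * a := by
  by_contra hcon
  push Not at hcon
  have hn : A.Normal := ⟨fun n hn g => by rw [hcon g n, mul_assoc, mul_inv_cancel, mul_one]; exact hn⟩
  rcases hn.eq_bot_or_eq_top with h | h
  · exact h1 h
  · exact h2 h

/-- the model -/
structure Mod (F : Type) [Field F] [Fintype F] (q : ℕ) where
  σ : F →+* F
  hs : ∀ x, σ x = x ^ q
  hσ : ∀ x, σ (σ x) = x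
  π : SUJ σ →* PSU 3 F q
  surj : Function.Surjective π
  ker : ∀ x, π x = 1 → x * x * x = 1 ∧ ∀ y, x * y = y * x

theorem exists_mod (F : Type) [Field F] [Fintype F] {q : ℕ} (hF : Fintype.card F = q ^ 2) : Nonempty (Mod F q) := by
  obtain ⟨r, hr⟩ := CharP.exists F
  have hrp : Fact r.Prime := ⟨CharP.char_is_prime F r⟩
  obtain ⟨n, -, hn⟩ := FiniteField.card F r
  have hq : 2 ≤ q := by
    have h1 : 1 < Fintype.card F := Fintype.one_lt_card
    rw [hF] at h1
    by_contra hlt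
    have : q ≤ 1 := by omega
    have : q ^ 2 ≤ 1 := by nlinarith
    omega
  obtain ⟨f, hf⟩ : ∃ f, q = r ^ f := by
    have h1 : q ∣ r ^ (n : ℕ) := by rw [← hn, hF]; exact dvd_pow_self q (by norm_num)
    obtain ⟨f, -, hf⟩ := (Nat.dvd_prime_pow hrp.out).1 h1
    exact ⟨f, hf⟩
  obtain ⟨σ, hs, hσ, T, T', hTT, hT⟩ := exists_T_all (r := r) hF hf hq
  let e : SUJ σ ≃* SU 3 F q := ((conjT hTT).subgroupMap (SUJ σ)).trans (MulEquiv.subgroupCongr (SU_eq_map hs hTT hT))
  refine ⟨⟨σ, hs, hσ, (QuotientGroup.mk' (Subgroup.center (SU 3 F q))).comp e.toMonoidHom,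
    (QuotientGroup.mk'_surjective _).comp e.surjective, ?_⟩⟩
  intro x hx
  have h1 : e x ∈ Subgroup.center (SU 3 F q) := (QuotientGroup.eq_one_iff _).1 hx
  constructor
  · obtain ⟨c, hc3, hcq, hc⟩ := (Cfsg.Agent.LieClassical.SUBasic.mem_center_SU_iff hF le_rfl _).1 h1
    apply e.injective
    rw [map_mul, map_mul, map_one]
    rw [hc]
    apply Subtype.ext
    apply Subtype.ext
    change ((Cfsg.Agent.LieClassical.SUBasic.suScalar q c hc3 hcq).1.1 * (Cfsg.Agent.LieClassical.SUBasic.suScalar q c hc3 hcq).1.1) *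
      (Cfsg.Agent.LieClassical.SUBasic.suScalar q c hc3 hcq).1.1 = (1 : Matrix (Fin 3) (Fin 3) F)
    rw [Cfsg.Agent.LieClassical.SUBasic.coe_suScalar, Matrix.diagonal_mul_diagonal, Matrix.diagonal_mul_diagonal,
      ← Matrix.diagonal_one]
    congr 1
    funext i
    rw [← hc3]
    ring
  · intro y
    apply e.injective
    rw [map_mul, map_mul]
    exact (Subgroup.mem_center_iff.1 h1 (e y)).symm

section main

variable {F : Type} [Field F] [Fintype F] {q : ℕ}

/-- an involution commuting with `t0` -/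
def r0 (σ : F →+* F) : SUJ σ :=
  ⟨⟨!![0, 0, 1; 0, -1, 0; 1, 0, 0], by rw [Matrix.det_fin_three]; simp⟩, by
    change (!![0, 0, 1; 0, -1, 0; 1, 0, 0] : Matrix (Fin 3) (Fin 3) F)ᵀ * Jm F *
      (!![0, 0, 1; 0, -1, 0; 1, 0, 0] : Matrix (Fin 3) (Fin 3) F).map σ = Jm F
    ext i j
    fin_cases i <;> fin_cases j <;> simp [Jm, Matrix.mul_apply, Fin.sum_univ_three]⟩

theorem r0_val (σ : F →+* F) : (r0 σ).1.1 = !![0, 0, 1; 0, -1, 0; 1, 0, 0] := rfl

theorem r0_sq (σ : F →+* F) : r0 σ * r0 σ = 1 := by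
  apply ext_mt
  rw [mt_mul, mt_one, r0_val]
  ext i j
  fin_cases i <;> fin_cases j <;> simp [Matrix.mul_apply, Fin.sum_univ_three]

theorem t0_sq (σ : F →+* F) : t0 σ * t0 σ = 1 := by
  apply ext_mt
  rw [mt_mul, mt_one, t0_val]
  ext i j
  fin_cases i <;> fin_cases j <;> simp [dmat, Matrix.mul_apply, Fin.sum_univ_three]

theorem r0_comm (σ : F →+* F) : r0 σ * t0 σ = t0 σ * r0 σ := by
  apply ext_mt
  rw [mt_mul, mt_mul, t0_val, r0_val]
  ext i j
  fin_cases i <;> fin_cases j <;> simp [dmat, Matrix.mul_apply, Fin.sum_univ_three]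

theorem t0_ne (h2 : (2 : F) ≠ 0) (σ : F →+* F) : t0 σ ≠ 1 := by
  intro h
  have h1 := congrFun (congrFun (congrArg (fun x : SUJ σ => x.1.1) h) 0) 0
  simp only [t0_val, mt_one, dmat] at h1
  simp at h1
  apply h2
  linear_combination -h1

theorem r0_ne (σ : F →+* F) : r0 σ ≠ 1 := by
  intro h
  have h1 := congrFun (congrFun (congrArg (fun x : SUJ σ => x.1.1) h) 0) 0
  simp only [r0_val, mt_one] at h1
  simp at h1

theorem r0_ne_t0 (σ : F →+* F) : r0 σ ≠ t0 σ := by
  intro h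
  have h1 := congrFun (congrFun (congrArg (fun x : SUJ σ => x.1.1) h) 0) 0
  simp only [r0_val, t0_val, dmat] at h1
  simp at h1

/-- an element of order at most two in the kernel is trivial -/
theorem Mod.eq_one (M : Mod F q) {x : SUJ M.σ} (h2 : x * x = 1) (h : M.π x = 1) : x = 1 := by
  have h3 := (M.ker x h).1
  rwa [h2, one_mul] at h3

/-- involutions lift -/
theorem Mod.lift (M : Mod F q) {s : PSU 3 F q} (h2 : s * s = 1) : ∃ x : SUJ M.σ, M.π x = s ∧ x * x = 1 := by
  obtain ⟨y, hy⟩ := M.surj s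
  refine ⟨y * y * y, ?_, ?_⟩
  · rw [map_mul, map_mul, hy, h2, one_mul]
  · have h3 : M.π (y * y) = 1 := by rw [map_mul, hy, h2]
    have h4 := (M.ker _ h3).1
    calc y * y * y * (y * y * y) = y * y * (y * y) * (y * y) := by group
      _ = 1 := h4

/-- the index of the centralizer in `PSU_3(q)` -/
theorem Mod.index_cent (M : Mod F q) (hF : Fintype.card F = q ^ 2) (g : SUJ M.σ) :
    (Subgroup.centralizer ({M.π (g * t0 M.σ * g⁻¹)} : Set (PSU 3 F q))).index ≤ q ^ 4 + q ^ 2 + 1 := by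
  have hfin : Finite (SUJ M.σ) := inferInstance
  refine le_trans ?_ (Cfsg.Agent.H66.IFU.index_cent hF g)
  have h1 : (Subgroup.centralizer ({g * t0 M.σ * g⁻¹} : Set (SUJ M.σ))).map M.π ≤
      Subgroup.centralizer ({M.π (g * t0 M.σ * g⁻¹)} : Set (PSU 3 F q)) := by
    rintro _ ⟨x, hx, rfl⟩
    rw [Subgroup.mem_centralizer_singleton_iff, ← map_mul, ← map_mul]
    rw [SetLike.mem_coe, Subgroup.mem_centralizer_singleton_iff] at hx
    rw [hx]
  have hfin' : Finite (PSU 3 F q) := Finite.of_surjective _ M.surj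
  have h2 := Nat.le_of_dvd (Nat.pos_of_ne_zero (Subgroup.index_ne_zero_of_finite))
    (Subgroup.index_dvd_of_le h1)
  have h3 := Nat.le_of_dvd (Nat.pos_of_ne_zero (Subgroup.index_ne_zero_of_finite))
    (Subgroup.index_map_dvd (Subgroup.centralizer ({g * t0 M.σ * g⁻¹} : Set (SUJ M.σ))) M.surj)
  exact h2.trans h3

theorem good (M : Mod F q) (hF : Fintype.card F = q ^ 2) (hq : Odd q) (h2 : (2 : F) ≠ 0) {p : ℕ} [hp : Fact p.Prime]
    [CharP F p] [IsSimpleGroup (PSU 3 F q)] {A : Subgroup (PSU 3 F q)} {Γ : Subgroup (MulAut (PSU 3 F q))}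
    (h : IF A Γ) : Good p (A.comap M.π) := by
  have hfin' : Finite (PSU 3 F q) := Finite.of_surjective _ M.surj
  have hna := exists_not_comm h.ne_bot h.ne_top
  intro g hg x hx hxp
  -- trace zero element
  obtain ⟨w, hw⟩ := Cfsg.Agent.LieClassical.HermBasic.exists_not_fixed hF
  rw [← M.hs] at hw
  have he : (w - M.σ w) + M.σ (w - M.σ w) = 0 := by
    rw [map_sub, M.hσ]
    ring
  have h0 : w - M.σ w ≠ 0 := fun h5 => hw (by linear_combination -h5)
  obtain ⟨y, rfl⟩ := exists_phi he h0 M.hσ hx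
  -- the involution
  obtain ⟨t, ht⟩ : ∃ t, t = M.π (g * t0 M.σ * g⁻¹) := ⟨_, rfl⟩
  have htA : t ∈ A := by rw [ht]; exact hg
  have hgg : (g * t0 M.σ * g⁻¹) * (g * t0 M.σ * g⁻¹) = 1 := by
    calc (g * t0 M.σ * g⁻¹) * (g * t0 M.σ * g⁻¹) = g * (t0 M.σ * t0 M.σ) * g⁻¹ := by group
      _ = 1 := by rw [t0_sq]; group
  have hto : orderOf t = 2 := by
    apply orderOf_eq_prime
    · rw [pow_two, ht, ← map_mul, hgg, map_one]
    · intro h5
      rw [ht] at h5
      have h6 := M.eq_one hgg h5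
      apply t0_ne h2 M.σ
      have h7 : t0 M.σ = g⁻¹ * (g * t0 M.σ * g⁻¹) * g := by group
      rw [h7, h6]
      group
  obtain ⟨-, -, -, -, hE⟩ := Cfsg.Agent.H999.IFB.IF.E2' h hna htA hto
  let f : SpecialLinearGroup (Fin 2) (kf M.σ) →* PSU 3 F q :=
    M.π.comp ((MulAut.conj g).toMonoidHom.comp (phi he h0))
  have hf : ∀ z, f z = M.π (g * phi he h0 z * g⁻¹) := fun z => rfl
  have hr : f.range ≤ Subgroup.centralizer ({t} : Set (PSU 3 F q)) := by
    rintro _ ⟨z, rfl⟩
    rw [Subgroup.mem_centralizer_singleton_iff, hf, ht, ← map_mul, ← map_mul]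
    congr 1
    calc g * phi he h0 z * g⁻¹ * (g * t0 M.σ * g⁻¹) = g * (phi he h0 z * t0 M.σ) * g⁻¹ := by group
      _ = g * (t0 M.σ * phi he h0 z) * g⁻¹ := by rw [phi_comm]
      _ = _ := by group
  have hidx := (hE _ hr).1
  rw [← Subgroup.index_comap] at hidx
  have hc := M.index_cent hF g
  rw [← ht] at hc
  have hk : Nat.card (kf M.σ) = q := by
    have h5 := card_kf M.hσ hw
    rw [Nat.card_eq_fintype_card, hF] at h5
    exact (Nat.pow_left_injective (by norm_num : 2 ≠ 0) h5).symm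
  have hkf : Fintype (kf M.σ) := Fintype.ofFinite _
  have hk' : Fintype.card (kf M.σ) = q := by rw [← Nat.card_eq_fintype_card, hk]
  have hmem : y ∈ A.comap f := by
    by_cases hq5 : 5 ≤ q
    · have h5 := Cfsg.Agent.H771.IFx.idx_top (F := kf M.σ) (by rw [hk']; exact hq) (by rw [hk']; exact hq5)
        (A.comap f) (by
          rw [hk']
          have h6 : q ^ 4 + q ^ 2 + 1 ≤ (q ^ 2 + q + 1) * q ^ 2 := by
            have : 1 ≤ q ^ 3 := Nat.one_le_pow _ _ (by omega)
            nlinarith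
          omega)
      rw [h5]
      trivial
    · -- `q = 3`
      have hq2 : 2 ≤ q := Cfsg.Agent.LieClassical.HermBasic.two_le hF
      have hq3 : q = 3 := by
        obtain ⟨k, hk⟩ := hq
        omega
      subst hq3
      have hp3 : p = 3 := by
        have h5 : p ∣ Fintype.card F := by
          obtain ⟨n, -, hn⟩ := FiniteField.card F p
          rw [hn]
          exact dvd_pow_self p n.ne_zero
        rw [hF] at h5
        have h6 := hp.out.dvd_of_dvd_pow h5
        exact (Nat.prime_dvd_prime_iff_eq hp.out Nat.prime_three).1 h6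
      subst hp3
      have hy3 : y ^ 3 = 1 := by
        apply phi_injective he h0
        rw [map_pow, map_one]
        exact hxp
      have h7 : (A.comap f).index ≤ 2 := by
        by_contra h8
        push Not at h8
        have h9 : 3 ^ 5 ≤ (A.comap f).index ^ 5 := Nat.pow_le_pow_left h8 5
        norm_num at hc h9
        omega
      have h8 : (A.comap f).index ≠ 0 := Subgroup.index_ne_zero_of_finite
      rcases (show (A.comap f).index = 1 ∨ (A.comap f).index = 2 by omega) with h9 | h9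
      · rw [Subgroup.index_eq_one.1 h9]
        trivial
      · have h10 : y * y ∈ A.comap f := Subgroup.mul_self_mem_of_index_two h9 y
        have h11 : y = (y * y)⁻¹ := by
          rw [eq_inv_iff_mul_eq_one, ← hy3, pow_three]
        rw [h11]
        exact inv_mem h10
  exact hmem

theorem odd (F : Type) [Field F] [Fintype F] (q : ℕ) (hF : Fintype.card F = q ^ 2) (hq : Odd q)
    (hs : IsSimpleGroup (PSU 3 F q)) : KillE (PSU 3 F q) := by
  intro A Γ h ⟨t, htA, hto⟩
  obtain ⟨M⟩ := exists_mod F hF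
  have hfin' : Finite (PSU 3 F q) := Finite.of_surjective _ M.surj
  obtain ⟨p, hp⟩ := CharP.exists F
  have hpp : Fact p.Prime := ⟨CharP.char_is_prime F p⟩
  have h2 : (2 : F) ≠ 0 := Cfsg.Agent.H771.IFx.two_ne_of_odd (by rw [hF]; exact hq.pow)
  have hna := exists_not_comm h.ne_bot h.ne_top
  have hG := good M hF hq h2 (p := p) h
  obtain ⟨w, hw⟩ := Cfsg.Agent.LieClassical.HermBasic.exists_not_fixed hF
  rw [← M.hs] at hw
  obtain ⟨e, he'⟩ : ∃ e, e = w - M.σ w := ⟨_, rfl⟩
  have he : e + M.σ e = 0 := by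
    rw [he', map_sub, M.hσ]
    ring
  have h0 : e ≠ 0 := fun h5 => hw (by rw [he'] at h5; linear_combination -h5)
  have hn : ∀ a : F, M.σ a = a → a ≠ 0 → ∃ y, y * M.σ y = a := by
    intro a ha ha0
    have h5 := S0754.result hF a ha0 (by rw [← M.hs]; exact ha)
    have h6 : 0 < Nat.card {x : F // x ^ (q + 1) = a} := by omega
    obtain ⟨⟨y, hy⟩⟩ := (Nat.card_pos_iff.1 h6).1
    exact ⟨y, by rw [M.hs, ← pow_succ', hy]⟩
  -- all involutions of `A`
  have hinv : ∀ s ∈ A, s * s = 1 → s ≠ 1 → ∃ g : SUJ M.σ, s = M.π (g * t0 M.σ * g⁻¹) := by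
    intro s hs hss hs1
    obtain ⟨x, hx, hxx⟩ := M.lift hss
    obtain ⟨g, hg⟩ := inv_conj M.hσ h2 he h0 hn hxx (by
      rintro rfl
      exact hs1 (by rw [← hx, map_one]))
    exact ⟨g, by rw [← hg, hx]⟩
  have htt : t * t = 1 := by rw [← pow_two, ← hto, pow_orderOf_eq_one]
  have ht1 : t ≠ 1 := fun h5 => by rw [h5, orderOf_one] at hto; omega
  obtain ⟨g, hg⟩ := hinv t htA htt ht1
  -- two involutions
  have hfin : ∀ g g' : SUJ M.σ, M.π (g * t0 M.σ * g⁻¹) ∈ A → M.π (g' * t0 M.σ * g'⁻¹) ∈ A →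
      (g⁻¹ * g').1.1 2 1 = 0 := by
    intro g g' hg hg'
    by_contra hf
    let B : Subgroup (SUJ M.σ) := (A.comap M.π).comap (MulAut.conj g).toMonoidHom
    have hmem : ∀ x, x ∈ B ↔ M.π (g * x * g⁻¹) ∈ A := fun x => Iff.rfl
    have hB : Good p B := by
      intro k hk x hx hxp
      have h5 := hG (g * k) (by
        have h6 : g * k * t0 M.σ * (g * k)⁻¹ = g * (k * t0 M.σ * k⁻¹) * g⁻¹ := by group
        rw [h6]
        exact hk) x hx hxp
      have h6 : g * k * x * (g * k)⁻¹ = g * (k * x * k⁻¹) * g⁻¹ := by group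
      rw [h6] at h5
      exact h5
    have hf' : (g⁻¹ * g') * t0 M.σ * (g⁻¹ * g')⁻¹ ∈ B := by
      rw [hmem]
      have h6 : g * (g⁻¹ * g' * t0 M.σ * (g⁻¹ * g')⁻¹) * g⁻¹ = g' * t0 M.σ * g'⁻¹ := by group
      rw [h6]
      exact hg'
    have hcore := core M.hσ h2 he h0 hB hg hf' hf
    -- a non central unitriangular element
    have hse : M.σ e = -e := by linear_combination he
    have hcb : e ^ 2 / 2 + M.σ (e ^ 2 / 2) + e * M.σ e = 0 := by
      rw [map_div₀, map_pow, hse, map_ofNat]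
      field_simp
      ring
    have hu1 : M.π (up M.hσ e (e ^ 2 / 2) hcb) ≠ 1 := by
      intro h5
      have h6 := (M.ker _ h5).2 (t0 M.σ)
      have h7 := congrFun (congrFun (congrArg (fun x : SUJ M.σ => x.1.1) h6) 1) 2
      simp [mt_mul, up_val, t0_val, umt, dmat, Matrix.mul_apply, Fin.sum_univ_three] at h7
      have h8 : 2 * e = 0 := by linear_combination -h7
      exact h0 ((mul_eq_zero.1 h8).resolve_left h2)
    have hle : Subgroup.normalClosure ({M.π (up M.hσ e (e ^ 2 / 2) hcb)} : Set (PSU 3 F q)) ≤ A := by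
      rw [Subgroup.normalClosure, Subgroup.closure_le]
      intro y hy
      obtain ⟨a, ha, hay⟩ := Group.mem_conjugatesOfSet_iff.1 hy
      rw [Set.mem_singleton_iff] at ha
      obtain ⟨k, hk⟩ := isConj_iff.1 hay
      obtain ⟨k', rfl⟩ := M.surj k
      have h5 := hcore (g⁻¹ * k') hcb
      rw [hmem] at h5
      have h6 : g * (g⁻¹ * k' * up M.hσ e (e ^ 2 / 2) hcb * (g⁻¹ * k')⁻¹) * g⁻¹ =
          k' * up M.hσ e (e ^ 2 / 2) hcb * k'⁻¹ := by group
      rw [h6, map_mul, map_mul, map_inv, ← ha, hk] at h5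
      exact h5
    rcases (Subgroup.normalClosure_normal (s := ({M.π (up M.hσ e (e ^ 2 / 2) hcb)} : Set (PSU 3 F q)))).eq_bot_or_eq_top
      with h5 | h5
    · apply hu1
      have h6 : M.π (up M.hσ e (e ^ 2 / 2) hcb) ∈ (⊥ : Subgroup (PSU 3 F q)) := by
        rw [← h5]
        exact Subgroup.subset_normalClosure rfl
      exact Subgroup.mem_bot.1 h6
    · apply h.ne_top
      rw [eq_top_iff, ← h5]
      exact hle
  rw [hg] at htA
  by_cases hall : ∀ s ∈ A, s * s = 1 → s ≠ 1 → s = t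
  · -- one involution
    have hAC : A ≤ Subgroup.centralizer ({t} : Set (PSU 3 F q)) := by
      intro a ha
      rw [Subgroup.mem_centralizer_singleton_iff]
      have htA' : t ∈ A := by rw [hg]; exact htA
      have h5 := hall (a * t * a⁻¹) (mul_mem (mul_mem ha htA') (inv_mem ha)) (by
        calc a * t * a⁻¹ * (a * t * a⁻¹) = a * (t * t) * a⁻¹ := by group
          _ = 1 := by rw [htt]; group) (by
        intro h6
        apply ht1
        calc t = a⁻¹ * (a * t * a⁻¹) * a := by group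
          _ = 1 := by rw [h6]; group)
      calc a * t = a * t * a⁻¹ * a := by group
        _ = t * a := by rw [h5]
    have hCinv : ∀ τ ∈ Γ, ∀ b ∈ Subgroup.centralizer ({t} : Set (PSU 3 F q)),
        τ b ∈ Subgroup.centralizer ({t} : Set (PSU 3 F q)) := by
      intro τ hτ b hb
      rw [Subgroup.mem_centralizer_singleton_iff] at hb ⊢
      have htA' : t ∈ A := by rw [hg]; exact htA
      have h5 := hall (τ t) ((h.inv τ hτ t).2 htA') (by rw [← map_mul, htt, map_one]) (by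
        intro h6
        apply ht1
        apply τ.injective
        rw [h6, map_one])
      calc τ b * t = τ b * τ t := by rw [h5]
        _ = τ t * τ b := by rw [← map_mul, hb, map_mul]
        _ = t * τ b := by rw [h5]
    rcases h.max _ hAC hCinv with h5 | h5
    · have hr : M.π (g * r0 M.σ * g⁻¹) ∈ A := by
        rw [← h5, Subgroup.mem_centralizer_singleton_iff, hg, ← map_mul, ← map_mul]
        congr 1
        calc g * r0 M.σ * g⁻¹ * (g * t0 M.σ * g⁻¹) = g * (r0 M.σ * t0 M.σ) * g⁻¹ := by group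
          _ = g * (t0 M.σ * r0 M.σ) * g⁻¹ := by rw [r0_comm]
          _ = _ := by group
      have hrr : g * r0 M.σ * g⁻¹ * (g * r0 M.σ * g⁻¹) = 1 := by
        calc g * r0 M.σ * g⁻¹ * (g * r0 M.σ * g⁻¹) = g * (r0 M.σ * r0 M.σ) * g⁻¹ := by group
          _ = 1 := by rw [r0_sq]; group
      have h6 := hall _ hr (by rw [← map_mul, hrr, map_one]) (by
        intro h7
        apply r0_ne M.σ
        calc r0 M.σ = g⁻¹ * (g * r0 M.σ * g⁻¹) * g := by group
          _ = 1 := by rw [M.eq_one hrr h7]; group)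
      have h7 : M.π (g * (r0 M.σ * t0 M.σ) * g⁻¹) = 1 := by
        have h8 : g * (r0 M.σ * t0 M.σ) * g⁻¹ = g * r0 M.σ * g⁻¹ * (g * t0 M.σ * g⁻¹) := by group
        rw [h8, map_mul, h6, ← hg, htt]
      have h8 := M.eq_one (x := g * (r0 M.σ * t0 M.σ) * g⁻¹) (by
        calc g * (r0 M.σ * t0 M.σ) * g⁻¹ * (g * (r0 M.σ * t0 M.σ) * g⁻¹) =
            g * (r0 M.σ * (t0 M.σ * r0 M.σ) * t0 M.σ) * g⁻¹ := by group
          _ = g * (r0 M.σ * (r0 M.σ * t0 M.σ) * t0 M.σ) * g⁻¹ := by rw [r0_comm]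
          _ = g * ((r0 M.σ * r0 M.σ) * (t0 M.σ * t0 M.σ)) * g⁻¹ := by group
          _ = 1 := by rw [r0_sq, t0_sq]; group) h7
      apply r0_ne_t0 M.σ
      have h9 : r0 M.σ * t0 M.σ = 1 := by
        calc r0 M.σ * t0 M.σ = g⁻¹ * (g * (r0 M.σ * t0 M.σ) * g⁻¹) * g := by group
          _ = 1 := by rw [h8]; group
      calc r0 M.σ = r0 M.σ * (t0 M.σ * t0 M.σ) := by rw [t0_sq, mul_one]
        _ = r0 M.σ * t0 M.σ * t0 M.σ := by rw [mul_assoc]
        _ = t0 M.σ := by rw [h9, one_mul]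
    · apply ht1
      apply Cfsg.Agent.H999.IFB.center_of hna
      intro x
      have h6 : x ∈ Subgroup.centralizer ({t} : Set (PSU 3 F q)) := by rw [h5]; trivial
      exact (Subgroup.mem_centralizer_singleton_iff.1 h6).symm
  · push Not at hall
    obtain ⟨s, hsA, hss, hs1, hst⟩ := hall
    obtain ⟨g', hg'⟩ := hinv s hsA hss hs1
    rw [hg'] at hsA
    have h5 := hfin g g' htA hsA
    have h6 := hfin (g * (wl M.hσ e he h0)⁻¹) g' (by
      have h7 : g * (wl M.hσ e he h0)⁻¹ * t0 M.σ * (g * (wl M.hσ e he h0)⁻¹)⁻¹ = g * t0 M.σ * g⁻¹ := by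
        have h8 : t0 M.σ * wl M.hσ e he h0 = wl M.hσ e he h0 * t0 M.σ := by
          apply ext_mt
          rw [mt_mul, mt_mul, t0_val, wl_val]
          ext i j
          fin_cases i <;> fin_cases j <;> simp [dmat, Matrix.mul_apply, Fin.sum_univ_three]
        calc g * (wl M.hσ e he h0)⁻¹ * t0 M.σ * (g * (wl M.hσ e he h0)⁻¹)⁻¹ =
            g * (wl M.hσ e he h0)⁻¹ * (t0 M.σ * wl M.hσ e he h0) * g⁻¹ := by group
          _ = g * (wl M.hσ e he h0)⁻¹ * (wl M.hσ e he h0 * t0 M.σ) * g⁻¹ := by rw [h8]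
          _ = g * t0 M.σ * g⁻¹ := by group
      rw [h7]
      exact htA) hsA
    have h7 : (g * (wl M.hσ e he h0)⁻¹)⁻¹ * g' = wl M.hσ e he h0 * (g⁻¹ * g') := by group
    rw [h7, mt_mul, wl_val] at h6
    have h8 : (g⁻¹ * g').1.1 0 1 = 0 := by
      simp only [Matrix.mul_apply, Fin.sum_univ_three] at h6
      simp [h0] at h6
      exact h6
    have h9 := comm_of_eig (x := g⁻¹ * g') (l := (g⁻¹ * g').1.1 1 1) (by
      ext i
      fin_cases i
      · simpa [e2, Matrix.mulVec, dotProduct, Fin.sum_univ_three] using h8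
      · simp [e2, Matrix.mulVec, dotProduct, Fin.sum_univ_three]
      · simpa [e2, Matrix.mulVec, dotProduct, Fin.sum_univ_three] using h5)
    apply hst
    rw [hg', hg]
    congr 1
    calc g' * t0 M.σ * g'⁻¹ = g * (g⁻¹ * g' * t0 M.σ) * g'⁻¹ := by group
      _ = g * (t0 M.σ * (g⁻¹ * g')) * g'⁻¹ := by rw [h9]
      _ = g * t0 M.σ * g⁻¹ := by group

end main

end Cfsg.Agent.H66.IFU
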